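import Cfsg.Agent.H720.PV.Tools
import Cfsg.Agent.H686.VO.SpFour
import Cfsg.Agent.H361.SelfCent
import Cfsg.Agent.H424.BlockTools
import Cfsg.Agent.H321.Orders
import Cfsg.Agent.S2469
import Cfsg.Agent.S2472
import Cfsg.Agent.S2545

/-!
# `PSp₄(4)`, `p = 3`: an irreducible character of degree `225`
-/

set_option autoImplicit false
set_option linter.unusedSectionVars false

namespace Cfsg.Agent.H720.PV

open Cfsg Subgroup Cfsg.Agent.H387.VO Cfsg.Agent.H620 Cfsg.Agent.H665.NoPQ Cfsg.Agent.H690.Spor.RankThree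
  Cfsg.Agent.H91 Cfsg.Agent.H91.Symp Cfsg.Agent.TitsThree Cfsg.Agent.TitsThree.SpIdent Cfsg.Agent.H686.VO
open scoped LinearAlgebra.Projectivization

section Points

variable {F : Type} [Field F] [Fintype F]

/-- the character of degree `q (q + 1)² / 2` in the permutation character on points -/
theorem exists_points_char : ∃ χ : IrrCharacter (PSp 2 F), ∃ f : ℕ, (χ : PSp 2 F → ℂ) 1 = (f : ℂ) ∧
    2 * f = Fintype.card F * (Fintype.card F + 1) ^ 2 := by
  classical
  set q := Fintype.card F with hqdef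
  have hq2 : 2 ≤ q := Fintype.one_lt_card
  have hk0 : 0 < q ^ 2 + q := by positivity
  have hcard : (1 + (q ^ 2 + q) + q ^ 3) * (q - 1) = q ^ (3 + 1) - 1 := by
    obtain ⟨c, hc⟩ : ∃ c, q = c + 1 := ⟨q - 1, by omega⟩
    rw [hc, Nat.add_sub_cancel]
    have : (c + 1) ^ (3 + 1) = (1 + ((c + 1) ^ 2 + (c + 1)) + (c + 1) ^ 3) * c + 1 := by ring
    rw [this, Nat.add_sub_cancel]
  obtain ⟨_, H⟩ := H107.DZ.Points.exists_r3 (F := F) (m := 2) (n := 3) (k := q ^ 2 + q) (by norm_num) hk0 hcard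
  rw [← hqdef] at H
  have hfin : Finite (ℙ F (Fin 2 ⊕ Fin 2 → F)) := by
    have h1 := H.cardn
    by_contra hcon
    rw [not_finite_iff_infinite] at hcon
    rw [Nat.card_eq_zero_of_infinite] at h1
    omega
  have := Fintype.ofFinite (ℙ F (Fin 2 ⊕ Fin 2 → F))
  obtain ⟨a, b, hab⟩ := H.exists_params
  have hp := H.params_eq hab
  have hb0 : 0 < b := by
    refine RankThree.pos_of_common hab (x := pt (Sum.inl 0)) (y := pt (Sum.inr 0)) (z := pt (Sum.inl 1)) (pt_ne (by simp)) ?_
      ⟨pt_ne (by simp), ?_⟩ ⟨pt_ne (by simp), ?_⟩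
    · rintro ⟨-, h⟩
      rw [pt_zero] at h
      simp [Matrix.J] at h
    · rw [pt_zero]
      simp [Matrix.J]
    · rw [pt_zero]
      simp [Matrix.J]
  -- `b = q + 1`
  have hp' : q * (q + 1) ^ 2 = (q + 1) * (1 + a) + q ^ 2 * b := by
    have h1 : q * (q * (q + 1) ^ 2) = q * ((q + 1) * (1 + a) + q ^ 2 * b) := by
      have e1 : q * (q * (q + 1) ^ 2) = (q ^ 2 + q) * (q ^ 2 + q) := by ring
      have e2 : q * ((q + 1) * (1 + a) + q ^ 2 * b) = (q ^ 2 + q) + (q ^ 2 + q) * a + q ^ 3 * b := by ring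
      rw [e1, e2, hp]
    exact Nat.eq_of_mul_eq_mul_left (by omega) h1
  have hb1 : q + 1 ∣ b := by
    have h1 : q + 1 ∣ q ^ 2 * b := by
      refine (Nat.dvd_add_right (dvd_mul_right (q + 1) (1 + a))).1 ?_
      rw [← hp', sq]
      exact ⟨q * (q + 1), by ring⟩
    refine (Nat.Coprime.pow_right 2 ?_).dvd_of_dvd_mul_left h1
    rw [Nat.coprime_self_add_left]
    exact Nat.coprime_one_left _
  obtain ⟨c, hc⟩ := hb1
  have hp2 : q * (q + 1) = (1 + a) + q ^ 2 * c := by
    have h1 : (q + 1) * (q * (q + 1)) = (q + 1) * ((1 + a) + q ^ 2 * c) := by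
      have e1 : (q + 1) * (q * (q + 1)) = q * (q + 1) ^ 2 := by ring
      rw [e1, hp', hc]
      ring
    exact Nat.eq_of_mul_eq_mul_left (by omega) h1
  have hc1 : c = 1 := by
    have h1 : c ≠ 0 := by
      rintro rfl
      rw [mul_zero] at hc
      omega
    have h2 : c < 2 := by
      by_contra h
      push Not at h
      have h3 : q ^ 2 * 2 ≤ q ^ 2 * c := Nat.mul_le_mul_left _ h
      nlinarith
    omega
  subst hc1
  rw [mul_one] at hc hp2
  have ha1 : a + 1 = q := by nlinarith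
  -- the degree
  have ha1Z : (a : ℤ) = q - 1 := by
    have : (a : ℤ) + 1 = q := by exact_mod_cast ha1
    linarith
  have hbZ : (b : ℤ) = q + 1 := by rw [hc]; push_cast; ring
  have hqZ : (2 : ℤ) ≤ q := by exact_mod_cast hq2
  obtain ⟨χ, f, hf, hfZ⟩ := RankThree.degree H hab (r := q - 1) (s := -(q + 1)) (by linarith)
    (by rw [ha1Z, hbZ]; ring) (by rw [hbZ]; push_cast; ring)
    (by push_cast; nlinarith [sq_nonneg (q : ℤ), pow_pos (show (0 : ℤ) < q by linarith) 3])
    (by push_cast; nlinarith [sq_nonneg (q : ℤ), pow_pos (show (0 : ℤ) < q by linarith) 3,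
      mul_nonneg (show (0 : ℤ) ≤ q - 1 by linarith) (show (0 : ℤ) ≤ q ^ 2 + q + q ^ 3 by positivity)])
  refine ⟨χ, f, hf, ?_⟩
  have h1 : (2 * q : ℤ) * f = (2 * q : ℤ) * 0 + q * (q * (q + 1) ^ 2) := by
    push_cast at hfZ
    linarith
  have h2 : (q : ℤ) * (2 * f) = q * (q * (q + 1) ^ 2) := by linarith
  have h3 := mul_left_cancel₀ (by linarith : (q : ℤ) ≠ 0) h2
  exact_mod_cast h3

end Points

section Four

variable {F : Type} [Field F] [Fintype F]

theorem card_psp_four (hF : Fintype.card F = 4) : Nat.card (PSp 2 F) = 979200 := by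
  have h1 := Cfsg.Agent.H321.Orders.psp_eq (F := F) (m := 2) (by norm_num)
  rw [hF] at h1
  have h3 : Cfsg.Agent.OrdDiv.prB 4 2 = 3825 := by decide +kernel
  rw [h3] at h1
  norm_num at h1
  exact h1

theorem charP_two_of_four (hF : Fintype.card F = 4) : CharP F 2 := by
  obtain ⟨p, hp⟩ := CharP.exists F
  have hpp : p.Prime := CharP.char_is_prime F p
  obtain ⟨n, -, hn⟩ := FiniteField.card F p
  rw [hF] at hn
  have h1 : p ∣ 2 ^ 2 := by
    rw [show (2 : ℕ) ^ 2 = 4 by norm_num, hn]; exact dvd_pow_self p n.ne_zero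
  have h2 := (Nat.prime_dvd_prime_iff_eq hpp Nat.prime_two).1 (hpp.dvd_of_dvd_pow h1)
  rwa [h2] at hp

theorem ord_17 (hF : Fintype.card F = 4) : orderOf ((Fintype.card F : ℕ) : ZMod 17) = 4 := by
  rw [hF, show (4 : ℕ) = 2 ^ (1 + 1) by norm_num]
  exact orderOf_eq_prime_pow (by decide) (by decide)

theorem ne_51 (hF : Fintype.card F = 4) (x : PSp 2 F) : orderOf x ≠ 51 := by
  intro hx
  have hp2 : Fact (Nat.Prime 2) := ⟨Nat.prime_two⟩
  have hchar : CharP F 2 := charP_two_of_four hF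
  have hcard := card_psp_four hF
  have ho3 : orderOf ((Fintype.card F : ℕ) : ZMod 3) = 1 := by
    rw [hF, orderOf_eq_one_iff]
    decide
  have h := (Cfsg.Agent.S2469.result (F := F) 2 2 le_rfl (fun _ => by rw [hF]; norm_num) 3 17 (by norm_num) (by norm_num)
    (by norm_num) (by norm_num) (by norm_num) (by norm_num) (by norm_num) (by rw [hcard]; norm_num)
    (by rw [hcard]; norm_num) 1 4 1 2 ho3.symm (ord_17 hF).symm (Or.inl ⟨by decide, by norm_num⟩)
    (Or.inr ⟨by decide, by norm_num⟩) (by norm_num)).2 ⟨by norm_num, ?_⟩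
  · exact h ⟨x, hx⟩
  · rintro ⟨t, ht, h⟩
    have : t = 4 := by omega
    subst this
    exact absurd ht (by decide)

theorem ne_85 (hF : Fintype.card F = 4) (x : PSp 2 F) : orderOf x ≠ 85 := by
  intro hx
  have hp2 : Fact (Nat.Prime 2) := ⟨Nat.prime_two⟩
  have hchar : CharP F 2 := charP_two_of_four hF
  have hcard := card_psp_four hF
  have ho5 : orderOf ((Fintype.card F : ℕ) : ZMod 5) = 2 := by
    rw [hF]
    exact orderOf_eq_prime (by decide) (by decide)
  have h := (Cfsg.Agent.S2469.result (F := F) 2 2 le_rfl (fun _ => by rw [hF]; norm_num) 5 17 (by norm_num) (by norm_num)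
    (by norm_num) (by norm_num) (by norm_num) (by norm_num) (by norm_num) (by rw [hcard]; norm_num)
    (by rw [hcard]; norm_num) 2 4 1 2 ho5.symm (ord_17 hF).symm (Or.inr ⟨by decide, by norm_num⟩)
    (Or.inr ⟨by decide, by norm_num⟩) (by norm_num)).2 ⟨by norm_num, ?_⟩
  · exact h ⟨x, hx⟩
  · rintro ⟨t, ht, h⟩
    have : t = 2 := by omega
    subst this
    exact absurd ht (by decide)

theorem ne_34 (hF : Fintype.card F = 4) (x : PSp 2 F) : orderOf x ≠ 34 := by
  intro hx
  have hp2 : Fact (Nat.Prime 2) := ⟨Nat.prime_two⟩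
  have hchar : CharP F 2 := charP_two_of_four hF
  have hcard := card_psp_four hF
  have h := (Cfsg.Agent.S2472.result (F := F) 2 2 le_rfl (fun _ => by rw [hF]; norm_num) 17 (by norm_num)
    (by norm_num) (by norm_num) (by rw [hcard]; norm_num) 4 2 (ord_17 hF).symm
    (Or.inr ⟨by decide, by norm_num⟩)).2 (by norm_num)
  exact h ⟨x, hx⟩

/-- the centralizer of an element of order `17` -/
theorem card_cent_17 (hF : Fintype.card F = 4) {x : PSp 2 F} (hx : orderOf x = 17) :
    Nat.card (centralizer ({x} : Set (PSp 2 F))) = 17 := by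
  have hcard := card_psp_four hF
  set C := centralizer ({x} : Set (PSp 2 F)) with hC
  have hd : Nat.card C ∣ 17 * (2 ^ 8 * 3 ^ 2 * 5 ^ 2) := by
    have := Subgroup.card_subgroup_dvd_card C
    rw [hcard] at this
    norm_num
    exact this
  have hno : ∀ r : ℕ, r.Prime → r ≠ 17 → (∀ y : PSp 2 F, orderOf y ≠ 17 * r) → ¬ r ∣ Nat.card C := by
    intro r hr h17 hy hdv
    have : Fact r.Prime := ⟨hr⟩
    obtain ⟨c, hc⟩ := exists_prime_orderOf_dvd_card' (G := C) r hdv
    have hcom : Commute x (c : PSp 2 F) := (mem_centralizer_singleton_iff.1 c.2).symm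
    refine hy (x * c) ?_
    rw [hcom.orderOf_mul_eq_mul_orderOf_of_coprime, hx, Subgroup.orderOf_coe, hc]
    rw [hx, Subgroup.orderOf_coe, hc]
    exact (Nat.coprime_primes (by norm_num) hr).2 h17.symm
  have h2 := hno 2 Nat.prime_two (by norm_num) (fun y => ne_34 hF y)
  have h3 := hno 3 Nat.prime_three (by norm_num) (fun y => ne_51 hF y)
  have h5 := hno 5 Nat.prime_five (by norm_num) (fun y => ne_85 hF y)
  have h6 : Nat.Coprime (Nat.card C) (2 ^ 8 * 3 ^ 2 * 5 ^ 2) := by
    refine Nat.Coprime.mul_right (Nat.Coprime.mul_right ?_ ?_) ?_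
    · exact Nat.Coprime.pow_right _ ((Nat.Prime.coprime_iff_not_dvd Nat.prime_two).2 h2).symm
    · exact Nat.Coprime.pow_right _ ((Nat.Prime.coprime_iff_not_dvd Nat.prime_three).2 h3).symm
    · exact Nat.Coprime.pow_right _ ((Nat.Prime.coprime_iff_not_dvd Nat.prime_five).2 h5).symm
  have h7 : Nat.card C ∣ 17 := h6.dvd_of_dvd_mul_right hd
  have h8 : 17 ∣ Nat.card C := by
    rw [← hx]
    exact Subgroup.orderOf_dvd_natCard C (mem_centralizer_singleton_iff.2 rfl)
  exact Nat.dvd_antisymm h7 h8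

theorem sit_17 (hF : Fintype.card F = 4) {x : PSp 2 F} (hx : orderOf x = 17) :
    H361.SelfCent.Sit (PSp 2 F) 17 57600 x where
  prime := by norm_num
  card := by rw [card_psp_four hF]
  ndvd := by norm_num
  cent := card_cent_17 hF hx

/-- the numbers -/
theorem check_17 : ∀ f : ℕ, f < 478 → 979200 % f = 0 → ∀ s ∈ ([1, -1] : List ℤ),
    (s * (f : ℤ) - 207) % 17 = 1 → 979200 % (s * (f : ℤ) - 207).natAbs = 0 → s * (f : ℤ) - 207 ≠ 0 →
      f = 225 := by
  decide +kernel

theorem exists_e_17 (hF : Fintype.card F = 4) {x : PSp 2 F} (hx : orderOf x = 17) :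
    Nat.card (normalizer ((zpowers x : Subgroup (PSp 2 F)) : Set (PSp 2 F))) = 17 * 4 := by
  have hS := sit_17 hF hx
  have h17 : Fact (Nat.Prime 17) := ⟨by norm_num⟩
  obtain ⟨e, he, h1⟩ := hS.card_norm (by norm_num)
  have h2 := hS.card_sylow_mul (by norm_num) h1
  have h3 : Nat.card (Sylow 17 (PSp 2 F)) ≡ 1 [MOD 17] := card_sylow_modEq_one 17 (PSp 2 F)
  rw [h1]
  have he16 : e ≤ 16 := Nat.le_of_dvd (by norm_num) he
  generalize Nat.card (Sylow 17 (PSp 2 F)) = n at h2 h3
  unfold Nat.ModEq at h3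
  obtain ⟨k, hk⟩ : ∃ k, n = 17 * k + 1 := ⟨n / 17, by omega⟩
  subst hk
  interval_cases e <;> omega

theorem exists_block_17 (hF : Fintype.card F = 4) :
    ∃ P : Sylow 17 (PSp 2 F), Nat.card P = 17 ∧ centralizer (P : Set (PSp 2 F)) = (P : Subgroup (PSp 2 F)) ∧
      ∃ M : Ideal AlgInt, IsPModular 17 M ∧ Nonempty (SmallSimple.DegreeData.BlockData 17 M P 4 4) := by
  have h17 : Fact (Nat.Prime 17) := ⟨by norm_num⟩
  obtain ⟨x, hx⟩ := exists_prime_orderOf_dvd_card' (G := PSp 2 F) 17 (by rw [card_psp_four hF]; norm_num)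
  have hS := sit_17 hF hx
  have hPx : IsPGroup 17 (zpowers x) :=
    IsPGroup.of_card (n := 1) (by rw [Nat.card_zpowers, hx, pow_one])
  obtain ⟨P, hP⟩ := hPx.exists_le_sylow
  have hPc : Nat.card P = 17 := hS.card_sylow P
  have hPe : zpowers x = P := by
    apply Subgroup.eq_of_le_of_card_ge hP
    rw [hPc, Nat.card_zpowers, hx]
  have hC : centralizer (P : Set (PSp 2 F)) = (P : Subgroup (PSp 2 F)) := by
    have h1 : centralizer ((zpowers x : Subgroup (PSp 2 F)) : Set (PSp 2 F)) = zpowers x := by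
      rw [← hS.cent_eq (by norm_num)]
      rw [hS.cent_eq (by norm_num), zpowers_eq_closure, centralizer_closure, ← zpowers_eq_closure,
        hS.cent_eq (by norm_num)]
    rw [hPe] at h1
    exact h1
  refine ⟨P, hPc, hC, H424.BlockTools.exists_block_of_card (by norm_num) P hPc (e := 4) (c := 17) ?_ ?_ (by norm_num)⟩
  · rw [hC, hPc]
  · have h1 := exists_e_17 hF hx
    rw [hPe] at h1
    exact h1

theorem charDegree_of_apply {G : Type} [Group G] [Finite G] {χ : G → ℂ} (hχ : IsIrrCharacter G χ) {d : ℕ}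
    (h : χ 1 = (d : ℂ)) : charDegree χ = d := by
  have := Cfsg.Agent.Blocks.Basic.irr_one_eq_charDegree hχ
  rw [h] at this
  exact_mod_cast this.symm

theorem card_sylow_two (hF : Fintype.card F = 4) [Fact (Nat.Prime 2)] (P : Sylow 2 (PSp 2 F)) : Nat.card P = 256 := by
  rw [P.card_eq_multiplicity, card_psp_four hF]
  have : (979200 : ℕ).factorization 2 = 8 := by
    have h1 : (979200 : ℕ) = 2 ^ 8 * 3825 := by norm_num
    rw [h1, Nat.factorization_mul (by norm_num) (by norm_num), Finsupp.add_apply, Nat.factorization_pow,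
      Finsupp.smul_apply, Nat.prime_two.factorization_self, Nat.factorization_eq_zero_of_not_dvd (by norm_num)]
    norm_num
  rw [this]
  norm_num

/-- **`PSp₄(4)` has an irreducible character of degree `225`** -/
theorem hasDZ_three_four (hF : Fintype.card F = 4) : HasDZ 3 (PSp 2 F) := by
  classical
  have h17 : Fact (Nat.Prime 17) := ⟨by norm_num⟩
  have h3f : Fact (Nat.Prime 3) := ⟨by norm_num⟩
  have h2f : Fact (Nat.Prime 2) := ⟨Nat.prime_two⟩
  have hchar : CharP F 2 := charP_two_of_four hF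
  have hcard := card_psp_four hF
  obtain ⟨P, hP, hC, M, hM, ⟨D⟩⟩ := exists_block_17 hF
  -- the character of degree 50
  obtain ⟨χ, f, hχ, hf⟩ := exists_points_char (F := F)
  rw [hF] at hf
  have hf50 : f = 50 := by omega
  subst hf50
  have hχd := charDegree_of_apply χ.2 hχ
  -- the Steinberg character
  obtain ⟨ψ', hψ, hSt⟩ := Cfsg.Agent.S2545.result (F := F) 2 2 (by norm_num)
  obtain ⟨Q⟩ : Nonempty (Sylow 2 (PSp 2 F)) := inferInstance
  have hψ1 := (hSt Q).1
  rw [card_sylow_two hF Q] at hψ1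
  have hψd := charDegree_of_apply hψ hψ1
  set ψ : IrrCharacter (PSp 2 F) := ⟨ψ', hψ⟩ with hψdef
  have hψd' : charDegree (ψ : PSp 2 F → ℂ) = 256 := hψd
  -- the exceptional characters
  have hex := D.dexc_modEq hP (by norm_num)
  have hexa := D.natAbs_dexc
  have hone : charDegree (D.one : PSp 2 F → ℂ) = 1 := by
    apply Blocks.Knorr.charDegree_of_natCast
    rw [D.coe_one]; simp
  -- both are non exceptional
  have key : ∀ (θ : IrrCharacter (PSp 2 F)) (d : ℕ), charDegree (θ : PSp 2 F → ℂ) = d → 1 < d →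
      (d % 17 = 1 ∨ d % 17 = 16) → θ ∈ D.l := by
    intro θ d hd hd1 hdm
    have h1 : θ ∈ principalBlock M (PSp 2 F) := by
      by_contra hcon
      have := D.dvd_degree hM hP hC hcon
      rw [hd] at this
      omega
    rcases (D.mem_block θ).1 h1 with h2 | h2
    · rcases List.mem_cons.1 h2 with h3 | h3
      · rw [h3, hone] at hd
        omega
      · exact h3
    · exfalso
      have h3 := D.deg_X θ h2
      rw [hd] at h3
      rw [← h3] at hexa
      rw [Int.ModEq] at hex
      push_cast at hex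
      omega
  have hχl := key χ 50 hχd (by norm_num) (by norm_num)
  have hψl := key ψ 256 hψd' (by norm_num) (by norm_num)
  have hχs : D.sd χ = -50 := by
    have h1 := D.sd_modEq hP (List.mem_cons_of_mem _ hχl)
    have h2 := D.natAbs_sd (List.mem_cons_of_mem _ hχl)
    rw [hχd] at h2
    rw [Int.ModEq] at h1
    push_cast at h1
    omega
  have hψs : D.sd ψ = 256 := by
    have h1 := D.sd_modEq hP (List.mem_cons_of_mem _ hψl)
    have h2 := D.natAbs_sd (List.mem_cons_of_mem _ hψl)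
    rw [hψd'] at h2
    rw [Int.ModEq] at h1
    push_cast at h1
    omega
  have m50 : (-50 : ℤ) ∈ D.degs := List.mem_map.2 ⟨χ, hχl, hχs⟩
  have m256 : (256 : ℤ) ∈ D.degs := List.mem_map.2 ⟨ψ, hψl, hψs⟩
  have hlen : D.degs.length = 3 := by have := D.length_degs; omega
  have hspec := D.degs_spec hP
  have hdex := D.dexc_eq (by norm_num)
  have hsq := D.sum_sq_le
  obtain ⟨z, hz, hsum, hsqs⟩ : ∃ z, z ∈ D.degs ∧ D.degs.sum = 206 + z ∧ 68036 ≤ (D.degs.map (· ^ 2)).sum := by
    match hL : D.degs, hlen with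
    | [a, b, c], _ =>
      rw [hL] at m50 m256
      simp only [List.mem_cons, List.not_mem_nil, or_false] at m50 m256
      simp only [List.map_cons, List.map_nil, List.sum_cons, List.sum_nil, List.mem_cons, List.not_mem_nil, or_false]
      rcases m50 with h | h | h <;> rcases m256 with h' | h' | h' <;> subst h <;>
        first
          | (exfalso; omega)
          | (subst h'; exact ⟨a, by simp, by ring, by nlinarith [sq_nonneg a]⟩)
          | (subst h'; exact ⟨b, by simp, by ring, by nlinarith [sq_nonneg b]⟩)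
          | (subst h'; exact ⟨c, by simp, by ring, by nlinarith [sq_nonneg c]⟩)
  obtain ⟨hz1, hz2, hz3⟩ := hspec z hz
  rw [hsum] at hdex
  rw [hcard] at hsq hz2
  have hfd : D.f ∣ 979200 := by
    have := D.f_dvd (by norm_num)
    rwa [hcard] at this
  have hflt : D.f < 478 := by
    by_contra hcon
    push Not at hcon
    have h1 : (478 : ℤ) ≤ D.f := by exact_mod_cast hcon
    push_cast at hsq
    nlinarith
  have hf225 : D.f = 225 := by
    obtain ⟨s, hs, hzs⟩ : ∃ s ∈ ([1, -1] : List ℤ), z = s * (D.f : ℤ) - 207 := by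
      rcases D.d_mem with h | h
      · refine ⟨1, by simp, ?_⟩
        unfold SmallSimple.DegreeData.BlockData.dexc at hdex
        rw [h] at hdex
        linarith
      · refine ⟨-1, by simp, ?_⟩
        unfold SmallSimple.DegreeData.BlockData.dexc at hdex
        rw [h] at hdex
        linarith
    rw [hzs] at hz1 hz2 hz3
    refine check_17 D.f hflt (Nat.mod_eq_zero_of_dvd hfd) s hs ?_ (Nat.mod_eq_zero_of_dvd hz2) hz3
    rw [Int.ModEq] at hz1
    push_cast at hz1
    rw [hz1]
  obtain ⟨Θ, hΘ⟩ := D.exists_X (by norm_num)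
  have hΘd := D.deg_X Θ hΘ
  rw [hf225] at hΘd
  have hΘ1 : (Θ : PSp 2 F → ℂ) 1 = ((225 : ℕ) : ℂ) := by
    rw [Cfsg.Agent.Blocks.Basic.irr_one_eq_charDegree Θ.2, hΘd]
  refine hasDZ_of_degree Θ.2 hΘ1 ?_
  rw [hcard]
  have : (979200 : ℕ).factorization 3 = 2 := by
    have h1 : (979200 : ℕ) = 3 ^ 2 * 108800 := by norm_num
    rw [h1, Nat.factorization_mul (by norm_num) (by norm_num), Finsupp.add_apply, Nat.factorization_pow,
      Finsupp.smul_apply, Nat.prime_three.factorization_self, Nat.factorization_eq_zero_of_not_dvd (by norm_num)]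
    norm_num
  rw [this]
  norm_num

end Four

end Cfsg.Agent.H720.PV
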