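import Cfsg.Agent.H720.PV.PSpRow
import Cfsg.Agent.H720.PV.PSpFourFour
import Cfsg.Prelude.Def_LieTypeChar

/-!
# The row `PSp` of S4555 and S4559 (helper720)
-/

set_option autoImplicit false

namespace Cfsg.Agent.H720.PV

open Cfsg Cfsg.Agent.H620 Cfsg.Agent.H620.PNorm Cfsg.Agent.H665.NoPQ

universe u

theorem even_of_charP_two {F : Type} [Field F] [Fintype F] [CharP F 2] : 2 ∣ Fintype.card F := by
  obtain ⟨n, -, hn⟩ := FiniteField.card F 2
  rw [hn]
  exact dvd_pow_self 2 n.ne_zero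

/-- the row `PSp`, given `Sp₄(2^a)`, `a ≥ 3`, `p ∣ q - 1` -/
theorem psp_of (h8 : ∀ (F : Type) [Field F] [Fintype F] [CharP F 2], 8 ≤ Fintype.card F →
      ∀ (p : ℕ) [Fact p.Prime], p ≠ 2 → p ∣ Fintype.card F - 1 → VOrdP p (PSp 2 F))
    (K : Type u) [Group K] [Finite K] [IsSimpleGroup K] (p r : ℕ) (hp : p.Prime) (hr : r.Prime) (hpr : p ≠ r)
    (h : IsPSpChar r K) (hd : p ∣ Nat.card K) : VOrdP p K := by
  have : Fact p.Prime := ⟨hp⟩
  have : Fact r.Prime := ⟨hr⟩
  obtain ⟨F, _, _, _, m, hm, hm2, ⟨e⟩⟩ := h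
  have hs : IsSimpleGroup (PSp m F) := by
    have : Nontrivial (PSp m F) := e.toEquiv.nontrivial_congr.1 inferInstance
    exact IsSimpleGroup.isSimpleGroup_of_surjective (G := K) e.toMonoidHom e.surjective
  suffices hv : VOrdP p (PSp m F) from hv.mulEquiv e.symm
  rw [Nat.card_congr e.toEquiv] at hd
  have hq2 : 2 ≤ Fintype.card F := Fintype.one_lt_card
  by_cases hpq : p ∣ Fintype.card F ^ 2 - 1
  swap
  · exact vOrdP_psp_dz hm hm2 hs hpr hpq hd
  obtain ⟨l, rfl⟩ : ∃ l, m = 1 + l := ⟨m - 1, by omega⟩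
  by_cases hl : 2 ≤ l
  · exact vOrdP_psp_gen (by omega) (Or.inl hl) (fun h => by omega) hpr hpq
  have hl1 : l = 1 := by omega
  subst hl1
  have h3 : 3 ≤ Fintype.card F := hm2 rfl
  by_cases h2 : r = 2
  · subst h2
    have hev := even_of_charP_two (F := F)
    have e2 : Fintype.card F ^ 2 - 1 = (Fintype.card F + 1) * (Fintype.card F - 1) := by
      have := Nat.sq_sub_sq (Fintype.card F) 1
      simpa using this
    rw [e2] at hpq
    rcases hp.dvd_mul.1 hpq with h | h
    · exact vOrdP_of_hasDZ (Cfsg.Agent.H686.VO.hasDZ_four hpr h) hd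
    · by_cases h8' : 8 ≤ Fintype.card F
      · exact h8 F h8' p hpr h
      · have hc : Fintype.card F = 4 ∨ Fintype.card F = 6 := by omega
        rcases hc with hc | hc
        · rw [hc] at h
          have hp3 : p = 3 := (Nat.prime_dvd_prime_iff_eq hp Nat.prime_three).1 h
          subst hp3
          exact vOrdP_of_hasDZ (hasDZ_three_four hc) hd
        · exfalso
          obtain ⟨n, -, hn⟩ := FiniteField.card F 2
          rw [hc] at hn
          have h3d : 3 ∣ 2 ^ (n : ℕ) := by rw [← hn]; norm_num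
          have := Nat.prime_three.dvd_of_dvd_pow h3d
          omega
  · have h2F : (2 : F) ≠ 0 := by
      intro h0
      have h1 : r ∣ 2 := (CharP.cast_eq_zero_iff F r 2).1 (by exact_mod_cast h0)
      exact h2 ((Nat.prime_dvd_prime_iff_eq hr Nat.prime_two).1 h1)
    by_cases h4 : 4 ≤ Fintype.card F
    · exact vOrdP_psp_gen le_rfl (Or.inr h2F) (fun _ => h4) hpr hpq
    · have hc : Fintype.card F = 3 := by omega
      rw [hc] at hpq
      have hp2 : p = 2 := by
        have h1 : p ∣ 2 ^ 3 := hpq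
        exact (Nat.prime_dvd_prime_iff_eq hp Nat.prime_two).1 (hp.dvd_of_dvd_pow h1)
      subst hp2
      exact vOrdP_psp_three hc hs

end Cfsg.Agent.H720.PV
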