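import Cfsg.Agent.H720.PV.PSpV
import Cfsg.Agent.H477.HC.Rows
import Cfsg.Agent.H579.RkThree
import Cfsg.Agent.H387.VO.OwnChar
import Cfsg.Agent.S0822

/-!
# The row `PSp_{2m}(q)` of S4555 and S4559 (helper720)

* `vOrdP_psp_gen` : `m ≥ 3` or `q` odd, `p ∣ q² - 1`, `(m, q) ≠ (2, 3)`;
* `vOrdP_psp_dz` : `p ∤ q² - 1`;
* `vOrdP_psp_three` : `(m, q) = (2, 3)`, `p = 2`.
-/

set_option autoImplicit false

namespace Cfsg.Agent.H720.PV

open Cfsg Matrix Module Cfsg.Agent.Characters Cfsg.Agent.H53.HC Cfsg.Agent.H477.HC Cfsg.Agent.H620.PNorm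
open Cfsg.Agent.H999.FxPSp Cfsg.Agent.H620 Cfsg.Agent.H665.NoPQ

/-- a character of `p`-defect zero -/
theorem vOrdP_of_hasDZ {S : Type*} [Group S] [Finite S] {p : ℕ} [Fact p.Prime] (h : HasDZ p S)
    (hd : p ∣ Nat.card S) : VOrdP p S := by
  obtain ⟨x, hx⟩ := exists_prime_orderOf_dvd_card' (G := S) p hd
  exact ⟨x, hx, H713.HasDZ.vz h (by rw [hx])⟩

theorem vOrdP_of_kill' {S : Type*} [Group S] [Finite S] {p : ℕ} [Fact p.Prime] (h : Kill S p)
    (hd : p ∣ Nat.card S) : VOrdP p S := by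
  obtain ⟨x, hx⟩ := exists_prime_orderOf_dvd_card' (G := S) p hd
  exact ⟨x, hx, h.vz (by rw [hx])⟩

/-- a character of degree divisible by `p`, Sylow subgroups of order `p` -/
theorem vOrdP_of_im {S : Type*} [Group S] [Finite S] {p : ℕ} [hp : Fact p.Prime] (h : H33.IM p S)
    (hd : p ∣ Nat.card S) (h1 : ¬ p ^ 2 ∣ Nat.card S) : VOrdP p S := by
  have hf : (Nat.card S).factorization p = 1 := by
    have h2 : 1 ≤ (Nat.card S).factorization p :=
      (hp.out.pow_dvd_iff_le_factorization Nat.card_pos.ne').1 (by rwa [pow_one])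
    have h3 : ¬ 2 ≤ (Nat.card S).factorization p := fun h =>
      h1 ((hp.out.pow_dvd_iff_le_factorization Nat.card_pos.ne').2 h)
    omega
  obtain ⟨χ, hχ⟩ := h
  refine vOrdP_of_hasDZ (H720.PV.hasDZ_of_degree χ.2 (Cfsg.Agent.Blocks.Basic.irr_one_eq_charDegree χ.2) ?_) hd
  rw [hf, pow_one]
  exact hχ

section Emb

variable {F : Type} [Field F]

theorem fix_emb {k l : ℕ} (a : symplecticGroup (Fin k) F) (hl : 1 ≤ l) :
    ∃ v : Fin (k + l) ⊕ Fin (k + l) → F, v ≠ 0 ∧
      ((emb k l F (a, 1) : symplecticGroup (Fin (k + l)) F) : Matrix (Fin (k + l) ⊕ Fin (k + l)) _ F) *ᵥ v = v := by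
  classical
  let e : Fin k ⊕ Fin l ≃ Fin (k + l) := finSumFinEquiv
  let j : Fin l := ⟨0, hl⟩
  refine ⟨Pi.single (Equiv.sumCongr e e (.inl (.inr j))) 1, ?_, ?_⟩
  · intro h
    have := congrFun h (Equiv.sumCongr e e (.inl (.inr j)))
    rw [Pi.single_eq_same] at this
    exact one_ne_zero this
  · rw [Matrix.mulVec_single_one]
    funext i
    obtain ⟨i', rfl⟩ := (Equiv.sumCongr e e).surjective i
    have h1 : ((emb k l F (a, 1) : symplecticGroup (Fin (k + l)) F) : Matrix (Fin (k + l) ⊕ Fin (k + l)) _ F)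
        (Equiv.sumCongr e e i') (Equiv.sumCongr e e (.inl (.inr j))) =
        H376.SpEmb.blkM a.1 (1 : Matrix (Fin l ⊕ Fin l) (Fin l ⊕ Fin l) F) i' (.inl (.inr j)) := by
      change H376.SpEmb.blkM a.1 (1 : Matrix (Fin l ⊕ Fin l) (Fin l ⊕ Fin l) F)
        ((Equiv.sumCongr finSumFinEquiv finSumFinEquiv).symm (Equiv.sumCongr e e i'))
        ((Equiv.sumCongr finSumFinEquiv finSumFinEquiv).symm (Equiv.sumCongr e e (.inl (.inr j)))) = _
      rw [Equiv.symm_apply_apply, Equiv.symm_apply_apply]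
    rw [Matrix.col_apply, h1]
    rcases i' with (i' | i') | (i' | i')
    · rw [Pi.single_eq_of_ne (by intro h; simpa using (Equiv.sumCongr e e).injective h)]
      rfl
    · by_cases hij : i' = j
      · rw [hij, Pi.single_eq_same]
        simp [H376.SpEmb.blkM, Matrix.toBlocks₁₁]
      · rw [Pi.single_eq_of_ne (by intro h; apply hij; simpa using (Equiv.sumCongr e e).injective h)]
        simp [H376.SpEmb.blkM, Matrix.toBlocks₁₁, hij]
    · rw [Pi.single_eq_of_ne (by intro h; simpa using (Equiv.sumCongr e e).injective h)]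
      rfl
    · rw [Pi.single_eq_of_ne (by intro h; simpa using (Equiv.sumCongr e e).injective h)]
      simp [H376.SpEmb.blkM, Matrix.toBlocks₂₁]

end Emb

section Row

variable {F : Type} [Field F] [Fintype F] {r : ℕ} [hr : Fact r.Prime] [CharP F r]

theorem vOrdP_psp_gen {l p : ℕ} [hp : Fact p.Prime] (hl : 1 ≤ l) (h : 2 ≤ l ∨ (2 : F) ≠ 0)
    (h22 : l = 1 → 4 ≤ Fintype.card F) (hpr : p ≠ r) (hpq : p ∣ Fintype.card F ^ 2 - 1) :
    VOrdP p (PSp (1 + l) F) := by
  have hfin : Finite (symplecticGroup (Fin 1) F) := inferInstance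
  obtain ⟨a, ha⟩ := exists_prime_orderOf_dvd_card' (G := symplecticGroup (Fin 1) F) p (by
    rw [card_one]
    exact Dvd.dvd.mul_left hpq _)
  obtain ⟨c, hc, hv⟩ := exists_cus_sq_v F rfl (1 + l) (by omega)
    (fun h => by rw [Nat.card_eq_fintype_card] at h; by_contra h'; have := h22 (by omega); omega)
    (fun h => by rw [Nat.card_eq_fintype_card] at h; by_contra h'; have := h22 (by omega); omega)
    (fun _ => by omega)
  have hpF : (p : F) ≠ 0 := by
    rw [Ne, CharP.cast_eq_zero_iff F r]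
    intro h
    exact hpr ((Nat.prime_dvd_prime_iff_eq hr.out hp.out).1 h).symm
  have hA : orderOf (emb 1 l F (a, 1)) = p := by
    rw [orderOf_injective _ (emb_injective 1 l), Prod.orderOf_mk, ha, orderOf_one, Nat.lcm_one_right]
  refine ⟨i1 1 l F a, by rw [orderOf_injective _ (i1_injective hl), ha], ?_⟩
  refine vz_psp (m := 1 + l) (K := F) (n := p) (A := emb 1 l F (a, 1)) (by omega) ?_ hc hv (one_pow 2) neg_one_sq hpF
    ?_ ?_ (fix_emb a hl)
  · rcases h with h | h
    · left; omega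
    · right; exact h
  · rw [← hA]; exact pow_orderOf_eq_one _
  · intro h1
    rw [h1, orderOf_one] at hA
    exact hp.out.one_lt.ne hA

/-- `p ∤ q² - 1` -/
theorem vOrdP_psp_dz {m p : ℕ} [hp : Fact p.Prime] (hm : 2 ≤ m) (h3 : m = 2 → 3 ≤ Fintype.card F)
    (hs : IsSimpleGroup (PSp m F)) (hpr : p ≠ r) (hpq : ¬ p ∣ Fintype.card F ^ 2 - 1)
    (hd : p ∣ Nat.card (PSp m F)) : VOrdP p (PSp m F) := by
  classical
  have hq : Nat.card F = Fintype.card F := Nat.card_eq_fintype_card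
  by_cases hsq : p ^ 2 ∣ Nat.card (PSp m F)
  swap
  · have him : H33.IM p (PSp m F) := im_psp (PSp m F)
      ⟨F, inferInstance, inferInstance, m, hm, h3, ⟨MulEquiv.refl _⟩⟩ hs hd H579.RkThree.leftSp43 H579.RkThree.leftSp62
      H579.RkThree.leftSp63
    exact vOrdP_of_im him hd hsq
  have hN := H686.VO.pow_dvd_prod F (m := m) (r := r) hp.out hpr hsq
  refine vOrdP_of_hasDZ (H686.VO.hasDZ_psp F (r := r) hm hpr (by rwa [hq]) (fun h => ?_) (fun h h' h7 => ?_)
    (fun h h' h7 => ?_)) hd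
  · have h4 := h3 h
    rw [hq]
    by_contra h5
    have h6 : Fintype.card F = 3 := by omega
    rw [hq, h6, h] at hN
    have h7 : p ^ 2 ∣ 640 := by
      simpa [Finset.prod_range_succ] using hN
    have h8 : p ∣ 2 ^ 7 * 5 := (dvd_pow_self p two_ne_zero).trans h7
    rw [h6] at hpq
    rcases hp.out.dvd_mul.1 h8 with h9 | h9
    · have := (Nat.prime_dvd_prime_iff_eq hp.out Nat.prime_two).1 (hp.out.dvd_of_dvd_pow h9)
      subst this
      exact hpq (by norm_num)
    · have := (Nat.prime_dvd_prime_iff_eq hp.out (by norm_num)).1 h9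
      subst this
      revert h7
      decide
  · rw [h', h, h7] at hN
    revert hN
    decide
  · rw [h', h, h7] at hN
    revert hN
    decide

/-- `PSp_4(3)`, `p = 2` -/
theorem vOrdP_psp_three (hF : Fintype.card F = 3) (hs : IsSimpleGroup (PSp 2 F)) : VOrdP 2 (PSp 2 F) := by
  have h4 : Nat.card (GaloisField 2 2) = 4 := GaloisField.card 2 2 two_ne_zero
  have : Fintype (GaloisField 2 2) := Fintype.ofFinite _
  have h4' : Fintype.card (GaloisField 2 2) = 4 := by rw [← Nat.card_eq_fintype_card]; exact h4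
  obtain ⟨e⟩ := Cfsg.Agent.S0822.result (F := GaloisField 2 2) (K := F) h4' hF
  have h : IsLieTypeChar 2 (PSp 2 F) := Or.inr (Or.inr (Or.inl
    ⟨GaloisField 2 2, inferInstance, inferInstance, inferInstance, 4, 2, by rw [h4']; norm_num, by norm_num,
      by norm_num, ⟨e.symm⟩⟩))
  have hk := Cfsg.Agent.H387.VO.Own.kill_of_lie Nat.prime_two h
  refine vOrdP_of_kill' hk ?_
  have : Finite (symplecticGroup (Fin 1) F) := inferInstance
  have h1 : 2 ∣ Nat.card (symplecticGroup (Fin 1) F) := two_dvd_card le_rfl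
  have h2 : Nat.card (symplecticGroup (Fin 1) F) ∣ Nat.card (PSp (1 + 1) F) :=
    Subgroup.card_dvd_of_injective (i1 1 1 F) (i1_injective le_rfl)
  exact h1.trans h2

end Row

end Cfsg.Agent.H720.PV
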